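import Mathlib
import Cfsg.Agent.Eo8.Loc
import Cfsg.Agent.PLocal.PSolvHall
import Cfsg.Agent.Grp.Fitting
import Cfsg.Agent.S0044

/-!
# Quadratic action
-/

set_option autoImplicit false
set_option linter.unusedSectionVars false

namespace Cfsg.Agent.Eo8

open Subgroup Cfsg PLocal.Amb
open Cfsg.Agent.PLocal.CP (IsCharP)
open scoped MatrixGroups

universe u

variable {G : Type*} [Group G] [Finite G]

variable {X : Subgroup G}

/-- Frobenius identity.  Write the action on `U` additively, `N g = 1 + g + g² + g³`,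
`N E = ∑ e ∈ E, e`.  For `i = 1, 2, 3` the map `e ↦ e * (g ^ i * e⁻¹ * g⁻¹ ^ i)` is a bijection of `E`,
so `0 = ∑ e, N (e g e⁻¹) = |E| + N E * (g + g² + g³) = 1 + N E` (as `N g = 0`, `|E|` odd).  So
`e = e * N E = N E = 1` on `U`. -/
theorem frob4 {K U : Type*} [Group K] [CommGroup U] (ρ : K →* MulAut U) (sq : ∀ u : U, u * u = 1)
    {E : Subgroup K} [Finite E] (hE : Odd (Nat.card E)) {g : K} (ng : g ∈ 𝐍[E])
    (hf : ∀ e ∈ E, e * g ^ 2 = g ^ 2 * e → e = 1) (g4 : g ^ 4 = 1)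
    (hN : ∀ u, u * ρ g u * ρ (g ^ 2) u * ρ (g ^ 3) u = 1) : ∀ e ∈ E, ∀ u, ρ e u = u := by
  have := Fintype.ofFinite E
  have b : ∀ x ∈ 𝐍[E], (∀ e : K, Commute e x → Commute e (g ^ 2)) → ∀ u,
      ∏ e : E, ρ (e * x * (e : K)⁻¹) u = ∏ e : E, ρ e (ρ x u) := fun x nx fx u => by
    let β : E → E := fun e => ⟨e * (x * (e : K)⁻¹ * x⁻¹), mul_mem e.2 (conj_mem_of_mem_normalizer nx (inv_mem e.2))⟩
    have inj : Function.Injective β := fun e e' h => by
      have h1 : (e : K) * (x * (e : K)⁻¹ * x⁻¹) = e' * (x * (e' : K)⁻¹ * x⁻¹) := congrArg Subtype.val h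
      refine Subtype.ext (inv_mul_eq_one.1 (hf _ (mul_mem (inv_mem e.2) e'.2) (fx _ ?_)))
      calc (e : K)⁻¹ * e' * x = (e : K)⁻¹ * (e' * (x * (e' : K)⁻¹ * x⁻¹)) * x * e' := by group
        _ = _ := by rw [← h1]; group
    refine Fintype.prod_bijective β (Finite.injective_iff_bijective.1 inj) _ _ fun e => ?_
    rw [← MulAut.mul_apply, ← map_mul]
    congr 2
    simp only [β]
    group
  have key : ∀ u, ∏ e : E, ρ e u = u := fun u => by
    have k : ∀ e : E, u * ρ (e * g * (e : K)⁻¹) u * ρ (e * g ^ 2 * (e : K)⁻¹) u * ρ (e * g ^ 3 * (e : K)⁻¹) u = 1 :=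
      fun e => by
        have := congrArg (ρ e) (hN (ρ (e : K)⁻¹ u))
        rw [map_mul, map_mul, map_mul, map_one, ← MulAut.mul_apply, ← map_mul, mul_inv_cancel, map_one] at this
        simpa only [map_mul, MulAut.mul_apply, MulAut.one_apply] using this
    have h1 := Finset.prod_eq_one (s := Finset.univ) fun e _ => k e
    obtain ⟨n, hn⟩ := hE
    have h2 : ρ g u * ρ (g ^ 2) u * ρ (g ^ 3) u = u := by
      rw [← mul_right_inj u, ← mul_assoc, ← mul_assoc, hN, sq]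
    rw [Finset.prod_mul_distrib, Finset.prod_mul_distrib, Finset.prod_mul_distrib, b g ng fun _ c => c.pow_right 2,
      b _ (pow_mem ng 2) fun _ c => c, b _ (pow_mem ng 3) fun _ c => by
        simpa only [← pow_mul, show 3 * 2 = 4 + 2 from rfl, pow_add, g4, one_mul] using c.pow_right 2,
      Finset.prod_const, Finset.card_univ, ← Nat.card_eq_fintype_card, hn, pow_succ, pow_mul, pow_two u, sq, one_pow,
      one_mul, mul_assoc, mul_assoc, ← Finset.prod_mul_distrib, ← Finset.prod_mul_distrib] at h1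
    simp only [← map_mul, ← mul_assoc, h2] at h1
    exact mul_left_cancel (h1.trans (sq u).symm)
  intro e he u
  conv_lhs => rw [← key u, map_prod]
  refine (Fintype.prod_equiv (Equiv.mulLeft (⟨e, he⟩ : E)) _ _ fun x => ?_).trans (key u)
  simp

theorem a1_engel {K : Type*} [Group K] {P : Subgroup K} (h : ∀ x ∈ P, x ^ 3 = 1) {x y : K} (hx : x ∈ P)
    (hy : y ∈ P) : Commute x (y * x * y⁻¹) := by
  have k : ∀ b ∈ P, x * b * x = b⁻¹ * x⁻¹ * b⁻¹ := fun b hb =>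
    calc x * b * x = (x * b) ^ 3 * (b⁻¹ * x⁻¹ * b⁻¹) := by simp only [pow_succ]; group
      _ = _ := by rw [h _ (mul_mem hx hb), one_mul]
  calc x * (y * x * y⁻¹) = y⁻¹ * x⁻¹ * (y ^ 3)⁻¹ * y := by rw [← mul_assoc, ← mul_assoc, k y hy]; group
    _ = y⁻¹ * y ^ 3 * x⁻¹ * y := by rw [h y hy, inv_one, mul_one, mul_one]
    _ = _ := by rw [mul_assoc y, mul_assoc y, k _ (inv_mem hy), pow_succ, pow_two]; group

/-- In `X̄ = X ⧸ R` let `ḡ` have order 4.  There is `1 ≠ E ≤ F = F(X̄)` normalized by `ḡ` on which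
`s̄ = ḡ ^ 2` has no fixed points: if `C_F(s̄) = 1` take `E = F`.  Otherwise `F` (nilpotent, odd) has an
element of order 3, so has exponent 3 (`P8.c3` with a central element).  `s̄` does not centralize
`F`, so inverts some `1 ≠ a = cm c s̄ ∈ F`; `a' = ḡ a ḡ⁻¹` is inverted too.  In a group of exponent 3
`x` commutes with its conjugates, so `k = ⁅a, a'⁆` commutes with `a, a'`, and
`ḡ k ḡ⁻¹ = ⁅a', a⁻¹⁆ = k`; by `P8.c4` `k = 1`.  `E = ⟨a, a'⟩` is abelian and inverted by `s̄`. -/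
theorem P8.exists_E {K : Type*} [Group K] [Finite K] [Group.IsSolvable K] (h : P8 K)
    (hO : pCore 2 K = ⊥) {g : K} (hg : orderOf g = 4) :
    ∃ E : Subgroup K, E ≠ ⊥ ∧ Odd (Nat.card E) ∧ g ∈ 𝐍[E] ∧
      ∀ e ∈ E, e * g ^ 2 = g ^ 2 * e → e = 1 := by
  have g4 : g ^ 2 * g ^ 2 = 1 := (pow_add g 2 2).symm.trans (hg ▸ pow_orderOf_eq_one g :)
  have s2 : orderOf (g ^ 2) = 2 := by rw [orderOf_pow, hg]; rfl
  have od : ∀ p : ℕ, p.Prime → Odd (Nat.card (pCore p K)) := fun p hp => by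
    have := Fact.mk hp
    obtain ⟨n, hn⟩ := Grp.card_pCore p K
    rcases hp.eq_two_or_odd' with rfl | o
    · rw [hO, card_bot]; exact odd_one
    · exact hn ▸ o.pow
  obtain ⟨p, hp, c, hc, nc⟩ : ∃ p : ℕ, p.Prime ∧ ∃ c ∈ pCore p K, c * g ^ 2 ≠ g ^ 2 * c := by
    by_contra! n
    have h1 : g ^ 2 ∈ fittingSubgroup K := S0044.result (zpowers_le.1 (le_centralizer_iff.1 (by
      rw [Grp.fitting_eq_iSup_pCore, PLocal.Amb.centralizer_zpowers]
      exact iSup_le fun p c hc => mem_c1.2 (n p p.2 c hc))))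
    have := Grp.le_pCore_of_le_fitting (isPGroup_zpowers (p := 2) ⟨1, (pow_two _).trans g4⟩) (zpowers_le.2 h1)
      (mem_zpowers _)
    rw [hO, mem_bot] at this
    rw [this, orderOf_one] at s2
    omega
  have := Fact.mk hp
  have hP := Grp.pCore_isPGroup p K
  by_cases f : ∀ e ∈ pCore p K, e * g ^ 2 = g ^ 2 * e → e = 1
  · exact ⟨_, fun e => nc (by rw [mem_bot.1 (e.le hc), one_mul, mul_one]), od p hp, le_normalizer_of_normal (mem_top g), f⟩
  push Not at f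
  obtain ⟨d, hd, d2, d1⟩ := f
  obtain rfl : p = 3 := by
    obtain ⟨n, hn⟩ := isPGroup_iff.1 hP d hd
    by_contra p3
    rcases hp.eq_two_or_odd' with rfl | o
    · exact d1 (mem_bot.1 (hO ▸ hd))
    · exact d1 (eq_one_of_pow hn (h.c2 s2 d2.symm) (Nat.Coprime.pow_left _ (Nat.Coprime.mul_right (m := 2 ^ 3) (n := 3)
        ((Nat.coprime_two_right.2 o).pow_right 3) ((Nat.coprime_primes hp Nat.prime_three).2 p3))))
  have e3 : ∀ x ∈ pCore 3 K, x ^ 3 = 1 := fun x => h.three hP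
  have cj : ∀ y, ∀ x ∈ pCore 3 K, y * x * y⁻¹ ∈ pCore 3 K := fun y x hx => (inferInstance : (pCore 3 K).Normal).conj_mem x hx y
  obtain ⟨a, ha, a1, sa⟩ : ∃ a ∈ pCore 3 K, a ≠ 1 ∧ g ^ 2 * a * (g ^ 2)⁻¹ = a⁻¹ :=
    ⟨cm c (g ^ 2), mul_mem (inv_mem hc) (cj _ c hc), fun e => nc (cm_eq_one.1 e), by
      calc _ = g ^ 2 * c⁻¹ * (g ^ 2)⁻¹ * (g ^ 2 * g ^ 2) * c * (g ^ 2 * g ^ 2)⁻¹ := by rw [cm]; group
        _ = _ := by rw [g4, cm]; group⟩
  obtain ⟨b, hb⟩ : ∃ b, b = g * a * g⁻¹ := ⟨_, rfl⟩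
  have bP : b ∈ pCore 3 K := hb ▸ cj g a ha
  have gb : g * b * g⁻¹ = a⁻¹ := by rw [← sa, hb, pow_two]; group
  have sb : g ^ 2 * b * (g ^ 2)⁻¹ = b⁻¹ := by
    calc _ = g * (g * b * g⁻¹) * g⁻¹ := by rw [pow_two]; group
      _ = _ := by rw [gb, hb]; group
  have ab : Commute a b := by
    have k1 : Commute a (cm a b) := (Commute.refl a).inv_right.mul_right (a1_engel e3 ha bP)
    have k2 : Commute b (cm a b) := by
      have := (a1_engel e3 bP (inv_mem ha)).mul_right (Commute.refl b).inv_right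
      simpa only [inv_inv, cm, mul_assoc] using this
    have k3 : g * cm a b * g⁻¹ = cm a b := by
      calc _ = b⁻¹ * (cm a b * b) := by rw [← cm_conj, ← hb, gb, cm, cm]; group
        _ = _ := by rw [← k2.eq, inv_mul_cancel_left]
    exact cm_eq_one.1 (eq_one_of_pow (h.c4 hg (mul_inv_eq_iff_eq_mul.1 k3))
      (e3 _ (mul_mem (inv_mem ha) (cj b a ha))))
  have := isMulCommutative_closure (k := {a, b}) (by rintro _ (rfl | rfl) _ (rfl | rfl) <;> first | rfl | exact ab | exact ab.symm)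
  have ab' : ∀ x ∈ closure {a, b}, ∀ y ∈ closure {a, b}, Commute x y := fun x hx y hy => setLike_mul_comm hx hy
  have le : closure {a, b} ≤ pCore 3 K := (closure_le _).2 (by rintro _ (rfl | rfl) <;> assumption)
  refine ⟨closure {a, b}, fun e => a1 (mem_bot.1 (e ▸ subset_closure (by simp))), (od 3 hp).of_dvd_nat (card_dvd_of_le le),
    mem_normalizer_of_cj_le ?_, fun e he c => ?_⟩
  · rw [MonoidHom.map_closure, closure_le]
    rintro _ ⟨x, hx, rfl⟩
    change g * x * g⁻¹ ∈ closure {a, b}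
    rcases hx with hx | hx <;> rw [hx]
    · exact hb ▸ subset_closure (by simp)
    · exact gb ▸ inv_mem (subset_closure (by simp))
  · have : g ^ 2 * e * (g ^ 2)⁻¹ = e⁻¹ := by
      clear c
      induction he using closure_induction with
      | mem x hx => rcases hx with rfl | rfl <;> assumption
      | one => simp
      | mul x y hx hy h1 h2 => rw [(ab' x hx y hy).mul_inv, ← h1, ← h2, conj_mul]
      | inv x hx h1 => rw [← conj_inv, h1]
    rw [← c, mul_inv_cancel_right] at this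
    exact eq_one_of_pow (e3 e (le he)) (show e ^ 2 = 1 by rw [pow_two]; nth_rw 1 [this]; exact inv_mul_cancel e)

theorem P8.a1_el {K : Type*} [Group K] [Finite K] [Group.IsSolvable K] (h : P8 K) (hc : 𝐂[pCore 2 K] ≤ pCore 2 K)
    (sq : ∀ r ∈ pCore 2 K, r * r = 1) {Q : Subgroup K} {s : K} (hs : s ∈ Q) (s2 : s * s = 1) (s1 : s ∉ pCore 2 K)
    (c : Q ≤ 𝐜[s]) (e : ∀ r ∈ pCore 2 K, Q ≤ 𝐜[cm r s]) (n : ℕ) :
    ∀ q ∈ Q, q ^ 2 ^ n = 1 → q ∈ pCore 2 K ∨ q * s ∈ pCore 2 K := by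
  induction n with
  | zero => exact fun q _ k => .inl (((pow_one q).symm.trans k).symm ▸ one_mem _)
  | succ n ih => ?_
  intro g hg k
  by_contra! k1
  have ab : ∀ x ∈ pCore 2 K, ∀ y ∈ pCore 2 K, x * y = y * x := fun x hx y hy =>
    comm_of_sq (sq x hx) (sq y hy) (sq _ (mul_mem hx hy))
  have gs := mem_c1.1 (c hg)
  have nm : ∀ x, x ∈ 𝐍[pCore 2 K] := fun x => le_normalizer_of_normal (mem_top x)
  rcases ih (g * g) (mul_mem hg hg) (by rw [← pow_two, ← pow_mul, ← pow_succ', k]) with g2 | g2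
  · have := h.four (X := ⊤) (PLocal.CP.isCharP_top_iff.2 hc) (mem_top s) (mem_top g)
    rw [pCoreOf_top] at this
    obtain ⟨y, -, y3, e1, e2⟩ := this (s2 ▸ one_mem _) g2 (cm_eq_one.2 gs.symm ▸ one_mem _) s1 k1.1 k1.2
    have q := fun t ht t2 e2 => hc (h.q4 (t := t) (Grp.pCore_isPGroup 2 K) le_rfl (fun x hx y hy => ab y hy x hx) sq y3
      (nm _) (nm _) (nm _) (nm _) (nm _) t2 e1 e2 fun u hu => (mem_c1.1 (e u hu ht)).symm)
    exact e2.elim (fun e2 => k1.1 (q g hg g2 e2)) fun e2 => k1.2 (q _ (mul_mem hg hs)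
      (by rwa [mul_assoc, ← mul_assoc s, ← gs, mul_assoc g, s2, mul_one]) e2)
  · let π := QuotientGroup.mk' (pCore 2 K)
    have e1 : ∀ {x}, π x = 1 ↔ x ∈ pCore 2 K := QuotientGroup.eq_one_iff _
    have ss : π s * π s = 1 := by rw [← map_mul, s2, map_one]
    have e2 : π g ^ 2 = π s := by
      rw [← mul_left_inj (π s), ss, pow_two, ← map_mul, ← map_mul, e1.2 g2]
    have e4 : π g ^ 2 ^ (1 + 1) = 1 := (pow_mul (π g) 2 2).trans (by rw [e2, pow_two, ss])
    obtain ⟨E, E1, oE, nE, fE⟩ := (h.quot _).exists_E (Grp.pCore_quotient_pCore 2 K)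
      (orderOf_eq_prime_pow (fun k => s1 (e1.1 (e2.symm.trans k))) e4)
    let _ : CommGroup (pCore 2 K) := { (pCore 2 K).toGroup with mul_comm := fun x y => Subtype.ext (ab _ x.2 _ y.2) }
    let ρ : K ⧸ pCore 2 K →* MulAut (pCore 2 K) := QuotientGroup.lift _ MulAut.conjNormal fun x hx =>
      MulEquiv.ext fun y => Subtype.ext (mul_inv_eq_of_eq_mul (ab _ hx _ y.2))
    have sq' : ∀ u : pCore 2 K, u * u = 1 := fun u => Subtype.ext (sq u u.2)
    have := frob4 ρ sq' oE nE fE e4 fun u => by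
      have w : ρ (π g) (u * ρ (π s) u) = u * ρ (π s) u := Subtype.ext (by
        have := mem_c1.1 (e u u.2 hg)
        rw [cm, inv_eq_of_mul_eq_one_left (sq u u.2)] at this
        exact mul_inv_eq_of_eq_mul this)
      rw [pow_succ' _ 2, e2, map_mul, MulAut.mul_apply, mul_right_comm u, mul_assoc, ← map_mul, w, sq']
    refine E1 (eq_bot_iff.2 fun x hx => ?_)
    obtain ⟨x, rfl⟩ := QuotientGroup.mk'_surjective _ x
    exact e1.2 (hc fun u hu => (mul_inv_eq_iff_eq_mul.1 (congrArg Subtype.val (this _ hx ⟨u, hu⟩))).symm)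

/-- Pass to `X₁ = X ⧸ Φ(R)`: `R₁ = R ⧸ Φ(R)` is elementary abelian, `R₁ = O₂(X₁)`, and
`C(R₁) ≤ R₁` (elements of odd order acting trivially on `R ⧸ Φ(R)` centralize `R`, `S0029`; so the
centralizer is a normal 2-subgroup).  The hypotheses pass to `X₁`, so prove the theorem first for
`R` elementary abelian.  Suppose `q, q * s ∉ R`; replacing `q` by the last power `q ^ 2 ^ k` outside
`R ⊔ ⟨s⟩` we get `g ∈ Q` with `g, g * s ∉ R` and `g * g ∈ R` or `g * g * s ∈ R`.  First case: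
`P8.four`, then `P8.q4` with `U = R`, `t = g` or `g * s` (in `Q`) gives `t ∈ 𝐂[R] ⊓ X ≤ R`.  Second
case: `ḡ` has order 4, `ḡ ^ 2 = s̄`; `X̄` acts faithfully on `R`; for `u ∈ R`, `w = u * s u s⁻¹ = cm u s`
commutes with `g`, so `N g u = w * g w g⁻¹ = 1`; `frob4` and `exists_E` give a contradiction. -/
theorem P8.a1 (h : P8 G) (hX : IsCharP 2 X) [Group.IsSolvable X] {Q : Subgroup G}
    (hQ : IsPGroup 2 Q) (QX : Q ≤ X) {s : G} (hs : s ∈ Q) (s2 : s * s = 1) (s1 : s ∉ 𝐑[X])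
    (c : Q ≤ 𝐜[s]) (e : ∀ r ∈ 𝐑[X], Q ≤ 𝐜[cm r s]) : ∀ q ∈ Q, q ∈ 𝐑[X] ∨ q * s ∈ 𝐑[X] := by
  intro q hq
  let D := (frattini (pCore 2 X)).map (pCore 2 X).subtype
  have hR := Grp.pCore_isPGroup 2 X
  have hD : IsPGroup 2 D := hR.to_le (map_subtype_le _)
  let f := QuotientGroup.mk' D
  have sj : Function.Surjective f := QuotientGroup.mk'_surjective D
  have hm : (pCore 2 X).map f = pCore 2 (X ⧸ D) := Grp.map_pCore_eq_of_surjective _ sj (by rwa [QuotientGroup.ker_mk'])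
  have m : ∀ {x : X}, f x ∈ pCore 2 (X ⧸ D) ↔ (x : G) ∈ 𝐑[X] := fun {x} =>
    (SetLike.ext_iff.1 (Grp.comap_pCore_quotient D hD) x).trans mem_map_subtype.symm
  have cn : ∀ {a : X}, Q ≤ 𝐜[(a : G)] → (Q.subgroupOf X).map f ≤ 𝐜[f a] := fun k => by
    rintro _ ⟨x, hx, rfl⟩
    exact mem_c1.2 (by rw [← map_mul, ← map_mul]; exact congrArg f (Subtype.ext (mem_c1.1 (k hx))))
  obtain ⟨n, hn⟩ := isPGroup_iff.1 hQ q hq
  refine (((h.sub X).quot D).a1_el (Q := (Q.subgroupOf X).map f) (s := f ⟨s, QX hs⟩) (fun g hg => ?_) ?_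
    (mem_map_of_mem f hs) (by rw [← map_mul]; exact (congrArg f (Subtype.ext s2)).trans (map_one f))
    (fun k => s1 (m.1 k)) (cn c) ?_ n (f ⟨q, QX hq⟩) (mem_map_of_mem f hq)
    (by rw [← map_pow]; exact (congrArg f (Subtype.ext hn)).trans (map_one f))).imp m.1 fun k => ?_
  · obtain ⟨g, rfl⟩ := sj g
    rw [← hm] at hg ⊢
    refine mem_map_of_mem _ ((PLocal.secStab_frattini_pCore (PLocal.CP.isCharP_iff.1 hX)).le fun x hx => ?_)
    have := hg _ (mem_map_of_mem f hx)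
    refine (QuotientGroup.eq_one_iff _).1 (show f _ = 1 from ?_)
    rw [map_mul, map_mul, map_mul, ← this, map_inv, map_inv]
    group
  · rw [← hm]
    rintro _ ⟨a, ha, rfl⟩
    rw [← pow_two, ← map_pow]
    exact (QuotientGroup.eq_one_iff _).2 ⟨_, Grp.PFrattini.pow_mem_frattini hR ⟨a, ha⟩, rfl⟩
  · intro r hr
    obtain ⟨r, rfl⟩ := sj r
    rw [← map_cm]
    exact cn (e r (m.1 hr))
  · rw [← map_mul] at k
    exact m.1 k

end Cfsg.Agent.Eo8
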