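import Mathlib
import Cfsg.Agent.Eo8.C5
import Cfsg.Agent.KSG.AutS6

/-!
# Modules for `A₆`
-/

set_option autoImplicit false
set_option linter.unusedSectionVars false

namespace Cfsg.Agent.Eo8

open Subgroup Cfsg PLocal.Amb
open Cfsg.Agent.PLocal.CP (IsCharP)
open scoped MatrixGroups

universe u

variable {G : Type*} [Group G] [Finite G]

variable {M Q V : Subgroup G}

/-- the conjugates of a vector fixed by the stabilizer of a pair -/
structure Du (M Q V : Subgroup G) (π : M →* A6) (f : Fin 6 → Fin 6 → G) : Prop where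
  surj : Function.Surjective π
  ker : ∀ m, π m = 1 ↔ (m : G) ∈ Q
  mem : ∀ i j, f i j ∈ V
  tri : ∀ i j k, f i j * f j k = f i k
  star : f 0 1 * f 0 2 * f 0 3 * f 0 4 * f 0 5 = 1
  act : ∀ (m : M) i j, m * f i j * (m : G)⁻¹ = f ((π m).1 i) ((π m).1 j)
  ne : f 4 5 ≠ 1

namespace A6a

open Equiv

/-- a product of two transpositions -/
def sw (i j k l : Fin 6) (h : i ≠ j ∧ k ≠ l := by decide) : A6 :=
  ⟨swap i j * swap k l, by
    rw [Perm.mem_alternatingGroup, map_mul, Perm.sign_swap h.1, Perm.sign_swap h.2]; rfl⟩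

theorem ext4 {g h : A6} (h0 : g.1 0 = h.1 0) (h1 : g.1 1 = h.1 1) (h2 : g.1 2 = h.1 2)
    (h3 : g.1 3 = h.1 3) : g = h := by
  obtain ⟨k, rfl⟩ : ∃ k, h = g * k := ⟨g⁻¹ * h, by group⟩
  simp only [Subgroup.coe_mul, Perm.mul_apply, EmbeddingLike.apply_eq_iff_eq] at h0 h1 h2 h3
  have e : ∀ i j : Fin 6, 0 ≠ i → 1 ≠ i → 2 ≠ i → 3 ≠ i → 0 ≠ j → 1 ≠ j → 2 ≠ j → 3 ≠ j → i ≠ j →
      i = 4 ∧ j = 5 ∨ i = 5 ∧ j = 4 := by decide
  have n : ∀ {i j c : Fin 6}, i ≠ j → c = k.1 i → c ≠ k.1 j := fun h e r =>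
    h (k.1.injective (e.symm.trans r))
  rcases e (k.1 4) (k.1 5) (n (by decide) h0) (n (by decide) h1) (n (by decide) h2) (n (by decide) h3)
    (n (by decide) h0) (n (by decide) h1) (n (by decide) h2) (n (by decide) h3) (n (by decide) rfl)
    with ⟨h4, h5⟩ | ⟨h4, h5⟩
  · rw [show k = 1 from Subtype.ext (Equiv.ext fun i => by
      fin_cases i
      exacts [h0.symm, h1.symm, h2.symm, h3.symm, h4, h5]), mul_one]
  · have := Perm.mem_alternatingGroup.1 k.2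
    rw [show k.1 = swap 4 5 from Equiv.ext fun i => by
      fin_cases i
      exacts [h0.symm, h1.symm, h2.symm, h3.symm, h4, h5], Perm.sign_swap (by decide)] at this
    exact absurd this (by decide)

theorem ex2 {i j : Fin 6} (h : i ≠ j) : ∃ g : A6, g.1 4 = i ∧ g.1 5 = j := by
  have := alternatingGroup.isMultiplyPretransitive (Fin 6)
  exact MulAction.is_two_pretransitive_iff.1 (MulAction.isMultiplyPretransitive_of_le
    (n := Nat.card (Fin 6) - 2) (by simp) (by simp)) (by decide) h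

theorem ex3 {i j k : Fin 6} (h1 : i ≠ j) (h2 : j ≠ k) (h3 : i ≠ k) :
    ∃ g : A6, g.1 0 = i ∧ g.1 1 = j ∧ g.1 2 = k := by
  have := alternatingGroup.isMultiplyPretransitive (Fin 6)
  have h : MulAction.IsMultiplyPretransitive A6 (Fin 6) 3 :=
    MulAction.isMultiplyPretransitive_of_le (n := Nat.card (Fin 6) - 2) (by simp) (by simp)
  have e : ∀ i j k : Fin 6, i ≠ j → j ≠ k → i ≠ k → Function.Injective ![i, j, k] := by decide
  obtain ⟨g, hg⟩ := h.exists_smul_eq ⟨_, e 0 1 2 (by decide) (by decide) (by decide)⟩ ⟨_, e i j k h1 h2 h3⟩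
  exact ⟨g, DFunLike.congr_fun hg 0, DFunLike.congr_fun hg 1, DFunLike.congr_fun hg 2⟩

/-- the standard embedding -/
def emb : A5 →* A6 :=
  ((Perm.extendDomainHom (finSuccAboveEquiv (5 : Fin 6))).comp (alternatingGroup (Fin 5)).subtype).codRestrict
    _ fun g => (Perm.sign_extendDomain _ _).trans g.2

theorem emb_inj : Function.Injective emb := fun _ _ e =>
  Subtype.ext (Perm.extendDomainHom_injective _ (congrArg Subtype.val e))

variable {W : Type*} [Group W] (sq : ∀ w : W, w * w = 1) {ρ : A6 →* MulAut W}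

/-- the stabilizer of a vector -/
def St (ρ : A6 →* MulAut W) (u : W) : Subgroup A6 := (MulAction.stabilizer (MulAut W) u).comap ρ

theorem mem_St {u : W} {g : A6} : g ∈ St ρ u ↔ ρ g u = u := Iff.rfl

theorem rmul (g h : A6) (u : W) : ρ (g * h) u = ρ g (ρ h u) := by rw [map_mul, MulAut.mul_apply]

theorem tr {u : W} {g t : A6} (h : A6) (e : g * t = t * h) (hh : h ∈ St ρ u) : g ∈ St ρ (ρ t u) := by
  rw [mem_St, ← rmul, e, rmul, mem_St.1 hh]

theorem St_mul {u v : W} {g : A6} (h1 : g ∈ St ρ u) (h2 : g ∈ St ρ v) : g ∈ St ρ (u * v) := by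
  rw [mem_St, map_mul, mem_St.1 h1, mem_St.1 h2]

theorem nrm (hN : Nm ρ) {x : A6} (h1 : x ^ 5 = 1) (h2 : x ≠ 1) (v : W) :
    v * ρ x v * ρ x (ρ x v) * ρ x (ρ x (ρ x v)) * ρ x (ρ x (ρ x (ρ x v))) = 1 := by
  have hx := ord_prime 5 h1 h2
  have := (hN x (.inl hx) v).2
  rw [hx] at this
  simpa [List.range_succ, pow_succ', mul_assoc] using this

theorem m1 : swap 0 1 * swap 2 3 ∈ A5 := Perm.mem_alternatingGroup.2 (by decide)

theorem m2 : swap 0 1 * swap 1 2 ∈ A5 := Perm.mem_alternatingGroup.2 (by decide)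

theorem a4 (sq : ∀ w : W, w * w = 1) (hN : Nm ρ) :
    (∃ w, w ≠ 1 ∧ sw 0 1 2 3 ∈ St ρ w ∧ sw 0 1 1 2 ∈ St ρ w) ∨
      ∀ y : A6, Perm.IsThreeCycle y.1 → ∀ w, ρ y w = w → w = 1 := by
  refine or_iff_not_imp_left.2 fun hf y hy w hw => ?_
  have e1 : emb ⟨swap 0 1 * swap 2 3, m1⟩ = sw 0 1 2 3 := by decide
  have e2 : emb ⟨swap 0 1 * swap 1 2, m2⟩ = sw 0 1 1 2 := by decide
  have b3 : orderOf (⟨swap 0 1 * swap 1 2, m2⟩ : A5) = 3 := ord_prime 3 (by decide) (by decide)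
  have h := cert5 sq (hN.comp emb emb_inj) (a := ⟨swap 0 1 * swap 2 3, m1⟩)
    (ord_prime 2 (by decide) (by decide)) b3 (by decide) (fun w h1 h2 => by_contra fun r =>
      hf ⟨w, r, e1 ▸ h1, e2 ▸ h2⟩) b3
  obtain ⟨c, hc⟩ := isConj_iff.1 (alternatingGroup.isThreeCycle_isConj (by simp) hy
    (τ := sw 0 1 1 2) (card_support_eq_three_iff.1 (by decide)))
  have := h (ρ c w) (by
    rw [MonoidHom.comp_apply, e2]
    exact tr y (by rw [← hc]; group) hw)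
  exact (map_eq_one_iff _ (ρ c).injective).1 this

include sq

theorem step (S : W → Prop) (hm : ∀ u v, S u → S v → S (u * v)) {t : A6}
    (ht : ∀ u, S u → S (ρ t u)) (t2 : ∀ u, S u → t * t ∈ St ρ u) {w : W} (hw : S w) (w1 : w ≠ 1) :
    ∃ u, u ≠ 1 ∧ S u ∧ t ∈ St ρ u := by
  by_cases e : w * ρ t w = 1
  · exact ⟨w, w1, hw, mul_left_cancel (e.trans (sq w).symm)⟩
  · refine ⟨_, e, hm _ _ hw (ht w hw), ?_⟩
    rw [mem_St, map_mul, ← rmul, mem_St.1 (t2 w hw)]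
    exact comm_of_sq (sq _) (sq _) (sq _)

theorem all3 (h : ∀ y : A6, orderOf y = 3 → ∀ w, ρ y w = w → w = 1) (v : W) : v = 1 := by
  let _ : CommGroup W := { ‹Group W› with mul_comm := fun a b => comm_of_sq (sq a) (sq b) (sq _) }
  have k : ∀ y : A6, y ^ 3 = 1 → y ≠ 1 → ∀ v, ρ y (ρ y v) = v * ρ y v := fun y h1 h2 v => by
    have := h y (ord_prime 3 h1 h2) (v * ρ y v * ρ y (ρ y v)) (by
      rw [map_mul, map_mul, ← rmul y y (ρ y v), ← rmul (y * y), ← pow_two, ← pow_succ, h1, map_one,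
        MulAut.one_apply, mul_rotate v])
    exact mul_left_cancel (this.trans (sq _).symm)
  have k1 := k (sw 0 1 1 2) (by decide) (by decide)
  have k2 := k (sw 3 4 4 5) (by decide) (by decide)
  have k3 := k (sw 0 1 1 2 * sw 3 4 4 5) (by decide) (by decide) v
  rw [← rmul, show sw 0 1 1 2 * sw 3 4 4 5 * (sw 0 1 1 2 * sw 3 4 4 5) =
    sw 0 1 1 2 * (sw 0 1 1 2 * (sw 3 4 4 5 * sw 3 4 4 5)) by decide, rmul, rmul, rmul, rmul, k2, k1,
    map_mul, mul_assoc, mul_right_inj, ← mul_assoc, mul_eq_right] at k3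
  refine h (sw 0 1 1 2 * sw 0 1 1 2 * sw 3 4 4 5) (ord_prime 3 (by decide) (by decide)) v ?_
  rw [rmul, mul_right_cancel (k3.trans (sq _).symm), ← rmul,
    show sw 0 1 1 2 * sw 0 1 1 2 * sw 0 1 1 2 = 1 by decide, map_one, MulAut.one_apply]

theorem s4 {w : W} (w1 : w ≠ 1) (h : sw 0 1 2 3 ∈ St ρ w ∧ sw 0 1 1 2 ∈ St ρ w) :
    ∃ w : W, w ≠ 1 ∧ ∀ g : A6, ({g.1 4, g.1 5} : Finset (Fin 6)) = {4, 5} → ρ g w = w := by
  obtain ⟨u, u1, ⟨h1, h2⟩, h3⟩ := step sq (ρ := ρ) (fun w => sw 0 1 2 3 ∈ St ρ w ∧ sw 0 1 1 2 ∈ St ρ w)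
    (fun _ _ a b => ⟨St_mul a.1 b.1, St_mul a.2 b.2⟩) (t := sw 0 1 4 5)
    (fun _ a => ⟨tr _ (by decide) a.1, tr _ (by decide) (mul_mem a.2 a.2)⟩)
    (fun _ _ => (show sw 0 1 4 5 * sw 0 1 4 5 = 1 by decide) ▸ one_mem _) h w1
  refine ⟨u, u1, fun g hg => ?_⟩
  have e : ∀ i j k l : Fin 6, i ≠ j → i ≠ k → i ≠ l → j ≠ k → j ≠ l → k ≠ l →
      (∀ n ∈ [i, j, k, l], n ∉ ({4, 5} : Finset (Fin 6))) → ∃ (a b d : Fin 2) (c : Fin 3),
      (fun x : A6 => i = x.1 0 ∧ j = x.1 1 ∧ k = x.1 2 ∧ l = x.1 3)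
        (sw 0 1 2 3 ^ a.1 * sw 0 2 1 3 ^ b.1 * sw 0 1 1 2 ^ c.1 * sw 0 1 4 5 ^ d.1) := by
    decide +kernel
  obtain ⟨a, b, d, c, e0, e1, e2, e3⟩ := e (g.1 0) (g.1 1) (g.1 2) (g.1 3) (by simp) (by simp)
    (by simp) (by simp) (by simp) (by simp) (by rw [← hg]; simp)
  have h4 : sw 0 2 1 3 ∈ St ρ u :=
    (show sw 0 1 1 2 * sw 0 1 1 2 * sw 0 1 2 3 * sw 0 1 1 2 = sw 0 2 1 3 by decide) ▸
      mul_mem (mul_mem (mul_mem h2 h2) h1) h2
  rw [ext4 e0 e1 e2 e3]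
  exact mul_mem (mul_mem (mul_mem (pow_mem h1 _) (pow_mem h4 _)) (pow_mem h2 _)) (pow_mem h3 _)

theorem exF (hN : Nm ρ) {w : W} (w1 : w ≠ 1)
    (hw : ∀ g : A6, ({g.1 4, g.1 5} : Finset (Fin 6)) = {4, 5} → ρ g w = w) :
    ∃ F : Fin 6 → Fin 6 → W, (∀ i j k, F i j * F j k = F i k) ∧
      F 0 1 * F 0 2 * F 0 3 * F 0 4 * F 0 5 = 1 ∧
      (∀ g i j, ρ g (F i j) = F (g.1 i) (g.1 j)) ∧ F 4 5 ≠ 1 := by
  let _ : CommGroup W := { ‹Group W› with mul_comm := fun a b => comm_of_sq (sq a) (sq b) (sq _) }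
  choose τ t1 t2 using @ex2
  obtain ⟨F, F1, F2⟩ : ∃ F : Fin 6 → Fin 6 → W, (∀ i, F i i = 1) ∧ ∀ g, ρ g w = F (g.1 4) (g.1 5) := by
    refine ⟨fun i j => if h : i = j then 1 else ρ (τ h) w, fun i => dif_pos rfl, fun g => ?_⟩
    have n : g.1 4 ≠ g.1 5 := by simp
    have := hw ((τ n)⁻¹ * g) (by
      have e1 : ((τ n)⁻¹ * g).1 4 = 4 := (τ n).1.symm_apply_eq.2 (t1 n).symm
      have e2 : ((τ n)⁻¹ * g).1 5 = 5 := (τ n).1.symm_apply_eq.2 (t2 n).symm
      rw [e1, e2])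
    beta_reduce
    rw [dif_neg n, ← congrArg (ρ (τ n)) this, ← rmul, mul_inv_cancel_left]
  have act : ∀ g i j, ρ g (F i j) = F (g.1 i) (g.1 j) := fun g i j => by
    by_cases h : i = j
    · rw [h, F1, F1, map_one]
    · obtain ⟨k, rfl, rfl⟩ := ex2 h
      rw [← F2, ← rmul, F2]
      rfl
  have sy : ∀ i j, F i j = F j i := fun i j => by
    by_cases h : i = j
    · rw [h]
    · have := F2 (τ h * sw 0 1 4 5)
      rw [rmul, hw (sw 0 1 4 5) (by decide), F2, t1, t2] at this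
      exact this.trans (congrArg₂ F (t2 h) (t1 h))
  have pent : ∀ (x : A6) (a b c d e : Fin 6), x ^ 5 = 1 ∧ x ≠ 1 ∧ x.1 a = b ∧ x.1 b = c ∧ x.1 c = d ∧
      x.1 d = e ∧ x.1 e = a → F a b * F b c * F c d * F d e * F e a = 1 := by
    rintro x a b c d e ⟨h0, h1, h2, h3, h4, h5, h6⟩
    have := nrm hN h0 h1 (F a b)
    rwa [act, h2, h3, act, h3, h4, act, h4, h5, act, h5, h6] at this
  have p1 := pent (sw 0 1 1 2 * sw 2 3 3 4) 0 1 2 3 4 (by decide)
  have p2 := pent (sw 3 1 1 0 * sw 0 2 2 4) 3 1 0 2 4 (by decide)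
  have p3 := pent (sw 3 1 1 0 * sw 0 4 4 2) 3 1 0 4 2 (by decide)
  have sq' : ∀ a b : W, a * (a * b) = b := fun a b => by rw [← mul_assoc, sq, one_mul]
  have tri : F 0 1 * F 1 2 = F 0 2 := by
    have := congrArg₂ (· * ·) (congrArg₂ (· * ·) p1 p2) p3
    rw [sy 1 0, sy 4 3, sy 0 4, sy 4 2] at this
    refine mul_right_cancel (b := F 0 2) ((Eq.trans ?_ this).trans (by rw [sq, one_mul, sq]))
    simp only [mul_comm, mul_left_comm, mul_assoc, sq, sq', mul_one, one_mul]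
  refine ⟨F, fun i j k => ?_, ?_, act, fun e => w1 ((hw 1 rfl).symm.trans ((F2 1).trans e))⟩
  · by_cases h1 : i = j
    · rw [h1, F1, one_mul]
    by_cases h2 : j = k
    · rw [h2, F1, mul_one]
    by_cases h3 : i = k
    · rw [h3, F1, sy k j, sq]
    obtain ⟨g, rfl, rfl, rfl⟩ := ex3 h1 h2 h3
    rw [← act, ← act, ← act, ← map_mul, tri]
  · have := nrm hN (x := sw 1 2 2 3 * sw 3 4 4 5) (by decide) (by decide) (F 0 1)
    simp only [act] at this
    exact this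

/-- the same coset of the stabilizer of the partition `0 1 2 | 3 4 5` -/
def Rr (g g' : A6) : Prop := ∃ (i j : Fin 3) (l : Fin 4),
  g = g' * (sw 0 1 1 2 ^ i.1 * sw 3 4 4 5 ^ j.1 * (sw 0 3 3 1 * sw 1 4 2 5) ^ l.1)

instance (g g' : A6) : Decidable (Rr g g') := by unfold Rr; infer_instance

end A6a

open A6a

/-- If no nontrivial vector is fixed by `a = (0 1)(2 3)` and `β = (0 1 2)`, then by `cert5` (for the
standard embedding `A₅ → A₆`, `Nm.comp`) and conjugacy all 3-cycles act without fixed points.  If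
this holds for `ρ` and for `ρ.comp θ`, `θ` the restriction to `A₆` of an outer automorphism of `S₆`
(`KSG.exists_outer_fin_six`, `isThreeCycle_map_of_outer`, `cycleType_map_of_outer`), then all
elements of order 3 satisfy `1 + y + y² = 0`; for `y = (0 1 2)`, `y' = (3 4 5)`:
`(y + y')(y + y'²) = y² + y + 1 = 0` and `y + y' = y (1 + y² y')`, `y + y'² = y (1 + y² y'²)` are
injective; so `W` is trivial.  The fixed points of `⟨a, β⟩ = A₄` are normalized by the involution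
`(0 1)(4 5)`, which has a nontrivial fixed point there. -/
theorem fix6 {W : Type*} [Group W] [Finite W] [Nontrivial W] (sq : ∀ w : W, w * w = 1)
    {ρ : A6 →* MulAut W} (hN : Nm ρ) : ∃ (θ : A6 ≃* A6) (w : W), w ≠ 1 ∧ ∀ g : A6,
      ({g.1 4, g.1 5} : Finset (Fin 6)) = {4, 5} → ρ (θ g) w = w := by
  rcases a4 sq hN with ⟨w, w1, h⟩ | h1
  · exact ⟨MulEquiv.refl _, s4 sq w1 h⟩
  obtain ⟨φ, hφ⟩ := KSG.exists_outer_fin_six
  let θ : A6 ≃* A6 := (φ.subgroupMap _).trans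
    (MulEquiv.subgroupCongr (characteristic_iff_map_eq.1 inferInstance φ))
  rcases a4 sq (hN.comp θ.symm.toMonoidHom θ.symm.injective) with ⟨w, w1, h⟩ | h2
  · exact ⟨θ.symm, s4 sq w1 h⟩
  obtain ⟨v, hv⟩ := exists_ne (1 : W)
  refine absurd (all3 sq (ρ := ρ) (fun y hy w hw => ?_) v) hv
  rcases KSG.cycleType_of_orderOf_three_of_card_six (by simp) (x := y.1)
    (by rwa [Subgroup.orderOf_coe]) with e | e
  · exact h1 y e w hw
  · exact h2 (θ y) (KSG.isThreeCycle_map_of_outer (by simp) φ hφ e) w (by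
      change ρ (θ.symm (θ y)) w = w
      rwa [θ.symm_apply_apply])

/-- Compose `π` with `θ.symm`; `f i j = ρ g w` for any `g` with `{g 4, g 5} = {i, j}`, `f i i = 1`.
The orbits of a 5-cycle on pairs give: the product over the five pairs containing a point is
trivial (`star`), the product over the edges of any pentagon is trivial.  Pentagons `a b c d e` and
`a b c e d` give the quadrangle relation for `c d a e`, pentagon `a b c d e` and quadrangle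
`a c d e` give the triangle relation. -/
theorem Ext.du (h : Ext A6 M Q) (hV : ZV M Q V) : ∃ π f, Du M Q V π f := by
  obtain ⟨π, hs, hπ⟩ := h.hom
  obtain ⟨ρ, r1, r2⟩ := h.rho hV hs hπ
  have := (nontrivial_iff_ne_bot V).2 hV.V1
  have sq : ∀ w : V, w * w = 1 := fun w => Subtype.ext (hV.sq w w.2)
  obtain ⟨θ, w, w1, hw⟩ := fix6 sq (ρ := ρ) r2
  obtain ⟨F, h1, h2, h3, h4⟩ := exF sq (Nm.comp (ρ := ρ) r2 θ.toMonoidHom θ.injective) w1 hw
  refine ⟨θ.symm.toMonoidHom.comp π, fun i j => F i j, θ.symm.surjective.comp hs, fun m => ?_,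
    fun i j => (F i j).2, fun i j k => congrArg Subtype.val (h1 i j k), congrArg Subtype.val h2,
    fun m i j => ?_, fun e => h4 (Subtype.ext e)⟩
  · rw [← hπ]
    exact map_eq_one_iff _ θ.symm.injective
  · rw [← r1, ← h3]
    change _ = (ρ (θ (θ.symm (π m))) (F i j) : G)
    rw [θ.apply_symm_apply]

/-- `V' = closure {f i j}` is generated by `f 0 1, f 0 2, f 0 3, f 0 4`, normal in `M`, so has order
at most 16, nontrivial, `≡ 1 mod 15`. -/
theorem Du.card {π : M →* A6} {f : Fin 6 → Fin 6 → G} (h : Du M Q V π f) (hE : Ext A6 M Q)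
    (hV : ZV M Q V) : ∃ V' ≤ V, ZV M Q V' ∧ Nat.card V' = 16 ∧ (∀ i j, f i j ∈ V') ∧
      (∀ v ∈ V', ∃ i j, v = f i j) ∧
      ∀ i j k l, i ≠ j → f i j = f k l → ({i, j} : Finset (Fin 6)) = {k, l} := by
  let _ : CommGroup V := { (inferInstance : Group V) with
    mul_comm := fun a b => Subtype.ext (hV.comm a.2 b.2) }
  have sq : ∀ w : V, w * w = 1 := fun w => Subtype.ext (hV.sq w w.2)
  let e : Fin 6 → V := fun i => ⟨f 0 i, h.mem 0 i⟩
  have f0 : ∀ i, f i i = 1 := fun i => mul_eq_left.1 (h.tri i i i)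
  have fe : ∀ i j, f i j = (e i * e j : V) := fun i j => by
    change _ = f 0 i * f 0 j
    rw [← h.tri 0 i j, ← mul_assoc, hV.sq _ (h.mem 0 i), one_mul]
  have pw : ∀ (x : V) (u v : ZMod 2), x ^ (u + v).val = x ^ u.val * x ^ v.val := fun x u v => by
    fin_cases u <;> fin_cases v
    · change x ^ 0 = x ^ 0 * x ^ 0
      simp
    · change x ^ 1 = x ^ 0 * x ^ 1
      simp
    · change x ^ 1 = x ^ 1 * x ^ 0
      simp
    · change x ^ 0 = x ^ 1 * x ^ 1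
      simp [sq]
  let ψ : Multiplicative (Fin 4 → ZMod 2) →* V := MonoidHom.mk'
    (fun a => e 1 ^ (a.toAdd 0).val * e 2 ^ (a.toAdd 1).val * e 3 ^ (a.toAdd 2).val *
      e 4 ^ (a.toAdd 3).val) fun a b => by
      simp only [toAdd_mul, Pi.add_apply, pw]
      ac_rfl
  let c : Fin 6 → Multiplicative (Fin 4 → ZMod 2) := fun i => Multiplicative.ofAdd
    (![![0, 0, 0, 0], ![1, 0, 0, 0], ![0, 1, 0, 0], ![0, 0, 1, 0], ![0, 0, 0, 1], ![1, 1, 1, 1]] i)
  have hc : ∀ i, ψ (c i) = e i := fun i => by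
    have v1 : (1 : ZMod 2).val = 1 := rfl
    have st : e 1 * e 2 * e 3 * e 4 = e 5 :=
      mul_right_cancel ((Subtype.ext h.star : _ * e 5 = 1).trans (sq _).symm)
    have e0 : 1 = e 0 := Subtype.ext (f0 0).symm
    fin_cases i <;> simp [ψ, c, v1, st, e0.symm]
  have hf : ∀ i j, f i j = V.subtype.comp ψ (c i * c j) := fun i j => by
    rw [fe, ← hc, ← hc, ← map_mul]
    rfl
  have su : ∀ a, ∃ i j, a = c i * c j := by decide
  have hv : ∀ v ∈ (V.subtype.comp ψ).range, ∃ i j, v = f i j := by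
    rintro _ ⟨a, rfl⟩
    obtain ⟨i, j, rfl⟩ := su a
    exact ⟨i, j, (hf i j).symm⟩
  have le : (V.subtype.comp ψ).range ≤ V := by
    rintro _ ⟨a, rfl⟩
    exact (ψ a).2
  have hm : ∀ i j, f i j ∈ (V.subtype.comp ψ).range := fun i j => ⟨_, (hf i j).symm⟩
  have Z : ZV M Q (V.subtype.comp ψ).range :=
    ⟨le.trans hV.VQ, fun r => h.ne (mem_bot.1 (r.le (hm 4 5))), fun m hm' => mem_normalizer_of_cj_le (by
      rintro _ ⟨v, h1, rfl⟩
      obtain ⟨i, j, rfl⟩ := hv v h1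
      exact (congrArg (· ∈ _) (h.act ⟨m, hm'⟩ i j)).mpr (hm _ _)), hV.cV.trans (centralizer_le le),
      fun v h1 => hV.sq v (le h1)⟩
  have c16 : Nat.card (Multiplicative (Fin 4 → ZMod 2)) = 16 := by simp
  have card : Nat.card (V.subtype.comp ψ).range = 16 := by
    obtain ⟨x, -, hx, -⟩ := aut5_A6
    obtain ⟨m, rfl⟩ := h.surj x
    have h1 := hE.p8.mod15 Z.pg (x := m) (by
      rw [Subgroup.orderOf_coe]
      exact (hE.p8.sub M).lift57 π (.inl rfl) hx) (Z.nV m.2)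
    have h2 := c16 ▸ Nat.card_le_card_of_surjective _ (V.subtype.comp ψ).rangeRestrict_surjective
    have h3 := mt card_eq_one.1 Z.V1
    omega
  refine ⟨_, le, Z, card, hm, hv, fun i j k l hij r => ?_⟩
  have inj := ((V.subtype.comp ψ).rangeRestrict_surjective.bijective_of_nat_card_le
    (c16.trans card.symm).le).1
  have d : ∀ i j k l, i ≠ j → c i * c j = c k * c l → ({i, j} : Finset (Fin 6)) = {k, l} := by
    decide +kernel
  exact d i j k l hij (inj (Subtype.ext ((hf i j).symm.trans (r.trans (hf k l)))))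

/-- fixed points of the Sylow 3-subgroup are trivial: in a counterexample `W₀ = C_W(E)` is
normalized by `c = (0 3 1 4)(2 5)`, so some `1 ≠ w ∈ W₀` is fixed by `E ⟨c⟩` of index 10 (key: the
partition `g {0,1,2} | g {3,4,5}`); three 5-orbits on the 10 partitions sum to a single point (or
use the rank, python-checked). -/
theorem fix9 {W : Type*} [Group W] [Finite W] (sq : ∀ w : W, w * w = 1) {ρ : A6 →* MulAut W}
    (hN : Nm ρ) {a b : A6} (ha : a.1 = Equiv.swap 0 1 * Equiv.swap 1 2)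
    (hb : b.1 = Equiv.swap 3 4 * Equiv.swap 4 5) (w : W) (h1 : ρ a w = w) (h2 : ρ b w = w) :
    w = 1 := by
  let _ : CommGroup W := { ‹Group W› with mul_comm := fun a b => comm_of_sq (sq a) (sq b) (sq _) }
  obtain rfl : a = sw 0 1 1 2 := Subtype.ext ha
  obtain rfl : b = sw 3 4 4 5 := Subtype.ext hb
  by_contra w1
  let c := sw 0 3 3 1 * sw 1 4 2 5
  obtain ⟨u, u1, hu, u2⟩ := step sq (ρ := ρ) (fun w => sw 0 1 1 2 ∈ St ρ w ∧ sw 3 4 4 5 ∈ St ρ w)
    (fun _ _ a b => ⟨St_mul a.1 b.1, St_mul a.2 b.2⟩) (t := c * c)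
    (fun _ a => ⟨tr _ (by decide) (mul_mem a.1 a.1), tr _ (by decide) (mul_mem a.2 a.2)⟩)
    (fun _ _ => (show c * c * (c * c) = 1 by decide) ▸ one_mem _) ⟨h1, h2⟩ w1
  obtain ⟨v, v1, ⟨⟨k1, k2⟩, -⟩, k3⟩ := step sq (ρ := ρ)
    (fun w => (sw 0 1 1 2 ∈ St ρ w ∧ sw 3 4 4 5 ∈ St ρ w) ∧ c * c ∈ St ρ w)
    (fun _ _ a b => ⟨⟨St_mul a.1.1 b.1.1, St_mul a.1.2 b.1.2⟩, St_mul a.2 b.2⟩) (t := c)
    (fun _ a => ⟨⟨tr _ (by decide) (mul_mem a.1.2 a.1.2), tr _ (by decide) a.1.1⟩,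
      tr _ (mul_assoc _ _ _) a.2⟩) (fun _ a => a.2) ⟨hu, u2⟩ u1
  have k : ∀ x g₁ g₂ g₃ g₄ : A6, x ^ 5 = 1 ∧ x ≠ 1 ∧ Rr x g₁ ∧ Rr (x * g₁) g₂ ∧ Rr (x * g₂) g₃ ∧
      Rr (x * g₃) g₄ → v * ρ g₁ v * ρ g₂ v * ρ g₃ v * ρ g₄ v = 1 := by
    rintro x g₁ g₂ g₃ g₄ ⟨x1, x2, h1, h2, h3, h4⟩
    have e : ∀ {g g'}, Rr g g' → ρ g v = ρ g' v := by
      rintro _ g' ⟨i, j, l, rfl⟩
      rw [rmul, mem_St.1 (mul_mem (mul_mem (pow_mem k1 _) (pow_mem k2 _)) (pow_mem k3 _))]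
    have := nrm hN x1 x2 v
    rwa [e h1, ← rmul, e h2, ← rmul, e h3, ← rmul, e h4] at this
  have n1 := k (sw 0 1 1 2 * sw 2 3 3 4) (sw 1 4 2 5) (sw 2 5 0 1) (sw 1 3 2 4) (sw 2 4 0 1)
    (by decide +kernel)
  have n2 := k (sw 0 1 1 2 * sw 2 4 4 5) (sw 1 3 2 5) (sw 2 3 0 1) (sw 1 4 2 5) (sw 2 5 0 1)
    (by decide +kernel)
  have n3 := k (sw 0 1 1 2 * sw 2 5 5 3) (sw 1 3 2 4) (sw 2 4 0 1) (sw 1 3 2 5) (sw 2 3 0 1)
    (by decide +kernel)
  generalize ρ (sw 1 4 2 5) v = a, ρ (sw 2 5 0 1) v = b, ρ (sw 1 3 2 4) v = c, ρ (sw 2 4 0 1) v = d,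
    ρ (sw 1 3 2 5) v = e, ρ (sw 2 3 0 1) v = f at n1 n2 n3
  have sq' : ∀ a b : W, a * (a * b) = b := fun a b => by rw [← mul_assoc, sq, one_mul]
  have := congrArg₂ (· * ·) (congrArg₂ (· * ·) n1 n2) n3
  simp only [mul_comm, mul_left_comm, mul_assoc, sq, sq', mul_one, one_mul] at this
  exact v1 this

end Cfsg.Agent.Eo8
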