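import Mathlib
import Cfsg.Agent.Eo8.A1
import Cfsg.Agent.MacW.SR
import Cfsg.Agent.S0200

/-!
# The case `V ≰ O₂(X)`
-/

set_option autoImplicit false
set_option linter.unusedSectionVars false

namespace Cfsg.Agent.Eo8

open Subgroup Cfsg PLocal.Amb
open Cfsg.Agent.PLocal.CP (IsCharP)
open scoped MatrixGroups commutatorElement

universe u

variable {G : Type*} [Group G] [Finite G]

/-- `R = 𝐑[X] ≤ T ≤ M`, `Q ≤ T ≤ X`.  Take `s ∈ V`, `s ∉ R`.  For `r ∈ R`, `cm r s ∈ V`, so `P8.a1`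
applies: every `q ∈ Q` lies in `R` or `R s`; `V₀ = V ⊓ R` has index 2 in `V`.  By `S0200` (in `↥X`)
`s` inverts some `1 ≠ y ∈ X` of odd order.  `W = cj(y, V)`, `W₀ = W ⊓ R = cj(y, V₀)`, `R ≤ 𝐍[W]`.
An element `w ∈ W₀ ⊓ Q` commutes with `s` and `s' = y s y⁻¹ = y ^ 2 * s`, so with `y`, hence
`w = y⁻¹ w y ∈ V`.  If `W₀ ≤ Q`, then `W₀ = V₀` (orders) is centralized by `y`; `s` and `s'` lie in
`secCent R V₀` (`cm r s ∈ V ⊓ R`, `cm r s' ∈ W ⊓ R`), so does `y`;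
`PLocal.CP.mem_centralizer_of_chain` gives `y ∈ 𝐂[R]`, absurd (`IsCharP.eq_one`).  So take `a ∈ W₀`, `a ∉ Q`.  For `r ∈ R ⊓ Q`, `cm r a ∈ W ⊓ R ⊓ Q ≤ V`, and `cm s a ∈ V`; so
`cm q a ∈ V` for all `q ∈ Q` and `Q ≤ V` (`NSl.le_of_cm`).  Finally `card V = 2 * card W₀`,
`card W₀ ≤ 4 * card (W₀ ⊓ Q)` (`NSl.rk'`) and `W₀ ⊓ Q ≤ V ⊓ 𝐜[a]`. -/
theorem NSl.lemA {M Q V T X : Subgroup G} (h : NSl M Q) (hV : ZV M Q V) (hT : IsSyl 2 T ⊤)
    (TM : T ≤ M) (TX : T ≤ X) (hX : IsCharP 2 X) [Group.IsSolvable X] (hn : ¬ V ≤ 𝐑[X]) :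
    Q = V ∧ ∃ a ∈ T, a ∉ Q ∧ a * a = 1 ∧ Nat.card V ≤ 8 * Nat.card ↥(V ⊓ 𝐜[a]) := by
  have := Fact.mk Nat.prime_two
  have RT : 𝐑[X] ≤ T := (hT.mono TX le_top).pCoreOf_le
  have QT : Q ≤ T := (hT.mono TM le_top).le_of_le_normalizer h.two h.le (TM.trans h.nQ)
  have RV : 𝐑[X] ≤ 𝐍[V] := RT.trans (TM.trans hV.nV)
  have XR := le_normalizer_pCoreOf 2 X
  obtain ⟨s, hs, s1⟩ := SetLike.not_le_iff_exists.1 hn
  have sX : s ∈ X := TX (QT (hV.VQ hs))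
  have s2 := hV.sq s hs
  have si := inv_eq_of_mul_eq_one_right s2
  have cQ : ∀ v ∈ V, Q ≤ 𝐜[v] := fun v hv q hq => mem_c1.2 (hV.cV hq v hv).symm
  have a1 := h.p8.a1 hX h.two (QT.trans TX) (hV.VQ hs) s2 s1 (cQ s hs) fun r hr => cQ _ (cm_mem' (RV hr) hs)
  obtain ⟨⟨y, yX⟩, y1, yo, e⟩ := S0200.result (⟨s, sX⟩ : X)
    (ord_prime 2 (Subtype.ext (by simpa [sq] using s2)) fun e => s1 (by
      rw [show s = 1 from congrArg Subtype.val e]; exact one_mem _))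
    fun N n p m => s1 ⟨_, le_pCore' p m, rfl⟩
  replace y1 : y ≠ 1 := fun e => y1 (Subtype.ext e)
  rw [orderOf_mk] at yo
  replace e : s * y * s⁻¹ = y⁻¹ := congrArg Subtype.val e
  have e' : y ^ 2 = y * s * y⁻¹ * s⁻¹ := by
    rw [← e, sq, mul_assoc y, mul_assoc y]
    congr 1
    rw [← mul_assoc, ← mul_assoc, s2, one_mul, mul_assoc, si, s2, mul_one]
  have yc : (orderOf y).Coprime 2 := Nat.coprime_two_right.2 yo
  have RW : 𝐑[X] ≤ 𝐍[cj(y, V)] := by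
    rw [normalizer_cj, ← cj_of_mem_normalizer (XR yX)]
    exact cj_mono y RV
  have hW := hV.cj y
  have k1 : ∀ w ∈ cj(y, V), w ∈ Q → y ∈ 𝐜[w] ∧ w ∈ V := fun w h1 h2 => by
    have : y ∈ 𝐜[w] := mem_of_pow_mem_of_coprime (n := 2) (by
      rw [e']
      exact mul_mem (mem_c1.2 (hW.comm (conj_mem_cj y hs) h1)) (inv_mem (mem_c1.2 (hV.cV h2 s hs)))) yc
    refine ⟨this, ?_⟩
    rwa [mem_cj, mul_assoc, ← mem_c1.1 this, inv_mul_cancel_left] at h1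
  by_cases hc : cj(y, V) ⊓ 𝐑[X] ≤ Q
  · have c0 : y ∈ 𝐂[V ⊓ 𝐑[X]] := fun v hv => by
      have m := conj_mem_cj y hv.1
      have := mem_c1.1 (k1 _ m (hc ⟨m, conj_mem_of_mem_normalizer (XR yX) hv.2⟩)).1
      rw [inv_mul_cancel_right] at this
      exact (mul_inv_eq_iff_eq_mul.1 (mul_left_cancel this)).symm
    have cs : s ∈ 𝐂[V ⊓ 𝐑[X]] := fun v hv => hV.comm hv.1 hs
    have m1 : ∀ g ∈ X, ∀ r ∈ 𝐑[X], ⁅g, r⁆ ∈ 𝐑[X] := fun g hg r hr =>
      mul_mem (conj_mem_of_mem_normalizer (XR hg) hr) (inv_mem hr)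
    have m2 : ∀ {U : Subgroup G} {g r : G}, g ∈ U → r ∈ 𝐍[U] → ⁅g, r⁆ ∈ U := fun hg hr => by
      simpa only [commutatorElement_def, mul_assoc] using mul_mem hg (conj_mem_of_mem_normalizer hr (inv_mem hg))
    have m3 : y ∈ PLocal.CP.secCent 𝐑[X] (V ⊓ 𝐑[X]) := mem_of_pow_mem_of_coprime (n := 2) (by
      rw [e']
      refine mul_mem ⟨centralizer_le_normalizer' _ (mul_mem (mul_mem c0 cs) (inv_mem c0)), fun r hr => ?_⟩
        (inv_mem ⟨centralizer_le_normalizer' _ cs, fun r hr => ⟨m2 hs (RV hr), m1 s sX r hr⟩⟩)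
      have n1 := m2 (conj_mem_cj y hs) (RW hr)
      have n2 := m1 _ (mul_mem (mul_mem yX sX) (inv_mem yX)) r hr
      exact ⟨(k1 _ n1 (hc ⟨n1, n2⟩)).2, n2⟩) yc
    refine absurd (hX.eq_one yX yc (PLocal.CP.mem_centralizer_of_chain yc
      (fun i => match i with | 0 => 𝐑[X] | 1 => V ⊓ 𝐑[X] | _ + 2 => ⊥) (fun i => ?_) 2 rfl fun i hi => ?_)) y1
    · match i with
      | 0 => exact isPGroup_pCoreOf 2 X
      | 1 => exact (isPGroup_pCoreOf 2 X).to_inf_right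
      | _ + 2 => exact IsPGroup.of_bot
    · interval_cases i
      · exact m3.2
      · exact fun a ha => commutatorElement_eq_one_iff_mul_comm.2 (c0 a ha).symm
  obtain ⟨a, ⟨aW, aR⟩, aQ⟩ := SetLike.not_le_iff_exists.1 hc
  have aM := TM (RT aR)
  have k2 : ∀ r ∈ 𝐑[X], r ∈ Q → cm r a ∈ V := fun r h1 h2 =>
    (k1 _ (cm_mem' (RW h1) aW) (cm_mem h2 (h.nQ aM))).2
  have QV : Q ≤ V := h.le_of_cm hV.nV aM aQ fun q hq => (a1 q hq).elim (fun m => k2 q m hq) fun m => by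
    have := mul_mem (mul_mem hs (k2 _ m (mul_mem hq (hV.VQ hs)))) (conj_mem_of_mem_normalizer (hV.nV aM) (inv_mem hs))
    convert this using 1
    simp only [cm]
    group
  refine ⟨le_antisymm QV hV.VQ, a, RT aR, aQ, hW.sq a aW, ?_⟩
  have c1 : Nat.card V ≤ 2 * Nat.card ↥(V ⊓ 𝐑[X]) := by
    have := MacW.card_le_ncard_mul V 𝐑[X] (T := Set.univ) Set.finite_univ (fun x => x ∈ 𝐑[X]) (by simp)
      fun x hx z hz e => by
        by_cases m : x ∈ 𝐑[X]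
        · exact mul_mem (inv_mem m) (e ▸ m)
        · have := mul_mem (inv_mem ((a1 x (hV.VQ hx)).resolve_left m))
            ((a1 z (hV.VQ hz)).resolve_left (e ▸ m))
          rwa [mul_inv_rev, mul_assoc, ← mul_assoc x⁻¹, hV.comm (mul_mem (inv_mem hx) hz) hs,
            inv_mul_cancel_left] at this
    simpa using this
  have c2 : Nat.card ↥(V ⊓ 𝐑[X]) = Nat.card ↥(cj(y, V) ⊓ 𝐑[X]) := by
    rw [← card_cj y, cj_inf, cj_of_mem_normalizer (XR yX)]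
  have c3 := h.rk' (W := cj(y, V) ⊓ 𝐑[X]) (inf_le_right.trans (RT.trans TM)) fun w hw => hW.sq w hw.1
  have c4 : Nat.card ↥(cj(y, V) ⊓ 𝐑[X] ⊓ Q) ≤ Nat.card ↥(V ⊓ 𝐜[a]) :=
    card_le_of_le fun w hw => ⟨QV hw.2, mem_c1.2 (hW.comm hw.1.1 aW)⟩
  omega

/-- with `half`: `c = card (V ⊓ 𝐜[a])`, `c ^ 2 ≤ card V ≤ 8 c`, so `card V ≤ 64`, and
`card V % 15 = 1`, `V ≠ ⊥`, `card V` a power of 2. -/
theorem NSl.lemA' {M Q V T X : Subgroup G} (h : NSl M Q) (hf : Hf M Q) (hV : ZV M Q V)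
    (hT : IsSyl 2 T ⊤) (TM : T ≤ M) (TX : T ≤ X) (hX : IsCharP 2 X) [Group.IsSolvable X]
    (hn : ¬ V ≤ 𝐑[X]) : Q = V ∧ Nat.card Q = 16 := by
  have := Fact.mk Nat.prime_two
  obtain ⟨e, a, aT, aQ, a2, c⟩ := h.lemA hV hT TM TX hX hn
  refine ⟨e, e ▸ ?_⟩
  have c1 := hf.half V hV a (TM aT) aQ (a2 ▸ one_mem _)
  have c2 := hf.mod V hV.VQ hV.nV
  obtain ⟨n, c3⟩ := hV.pg.exists_card_eq
  have c4 : Nat.card V ≠ 1 := fun e => hV.V1 (card_eq_one.1 e)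
  have c5 : Nat.card V ≤ 64 := by nlinarith
  rw [c3] at c2 c4 c5 ⊢
  have : n ≤ 6 := (Nat.pow_le_pow_iff_right (a := 2) (by norm_num)).1 (by omega)
  interval_cases n <;> omega

/-- Use `FGS.SecRank.subgroup_of_relIndex_le`: `N ≤ H ≤ T`, `H ⧸ N` elementary abelian, `D = H ⊓ Q`.
`N.relIndex H = N.relIndex (N ⊔ D) * (N ⊔ D).relIndex H`, the second factor is at most 4 by `rk`, the
first is `(N ⊓ D).relIndex D`.  If `H ≤ Q` the index is at most 16.  Otherwise there is `a ∈ H`,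
`a ∉ Q`, `a * a ∈ Q`; `d ↦ cm d a` is an endomorphism of `D` with image in `N` and kernel of order at
most 4 (`half` with `V = Q`), so the first factor is at most 4. -/
theorem NSl.sr {M Q T : Subgroup G} (h : NSl M Q) (hf : Hf M Q) (hV : ZV M Q Q)
    (h16 : Nat.card Q = 16) (hT : IsPGroup 2 T) (TM : T ≤ M) : SectionalPRankLE 2 4 T := by
  classical
  refine FGS.SecRank.subgroup_of_relIndex_le fun N H NH HT hc hs => ?_
  have HM := HT.trans TM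
  by_cases c : H ≤ Q
  · exact (Nat.le_of_dvd Nat.card_pos (relIndex_dvd_card N H)).trans ((card_le_of_le c).trans h16.le)
  refine MacW.relIndex_le_of_card NH ?_
  have nK : ∀ K : Subgroup G, N ≤ K → K ≤ H → H ≤ 𝐍[K] := fun K h1 h2 =>
    le_normalizer_iff_cj.2 fun g hg => cj_le_iff_forall.2 fun x hx => by
      simpa [commutatorElement_def] using mul_mem (h1 (hc (commutator_mem_commutator hg (h2 hx)))) hx
  have c1 := h.rk (H ⊓ Q ⊔ N) H HM (hT.to_le HT) (nK _ le_sup_right (sup_le inf_le_left NH))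
    (fun x hx => mem_sup_right (sq x ▸ hs x hx)) (inf_comm Q H ▸ le_sup_left)
  have c2 := Grp.card_mul_relIndex (sup_le inf_le_left NH : H ⊓ Q ⊔ N ≤ H)
  have c3 := Grp.card_sup_mul_card_inf_of_le_normalizer (H := H ⊓ Q) (inf_le_left.trans (nK N le_rfl NH))
  obtain ⟨a, aH, aQ, a2⟩ : ∃ a ∈ H, a ∉ Q ∧ a * a ∈ Q := by
    obtain ⟨a, aH, aQ⟩ := SetLike.not_le_iff_exists.1 c
    have ex : ∃ k : ℕ, a ^ 2 ^ k ∈ Q := (isPGroup_iff.1 hT a (HT aH)).imp fun k e => by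
      rw [e]; exact one_mem _
    obtain ⟨k, hk⟩ := Nat.exists_eq_succ_of_ne_zero (n := Nat.find ex) fun e => aQ (by
      simpa [e] using Nat.find_spec ex)
    refine ⟨a ^ 2 ^ k, pow_mem aH _, Nat.find_min ex (by omega), ?_⟩
    rw [← sq, ← pow_mul, ← pow_succ]
    simpa only [hk] using Nat.find_spec ex
  have c4 := hf.half Q hV a (HM aH) aQ a2
  have c5 : Nat.card ↥(H ⊓ Q ⊓ 𝐜[a]) ≤ 4 :=
    (card_le_of_le (inf_le_inf_right _ inf_le_right)).trans (by nlinarith)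
  have c6 := MacW.card_le_ncard_mul (H ⊓ Q) 𝐜[a] (T := (H ⊓ Q ⊓ N : Subgroup G)) (Set.toFinite _)
    (fun d => cm d a) (fun d hd => mem_inf.2 ⟨mem_inf.2 ⟨cm_mem' (le_normalizer hd.1) aH, cm_mem hd.2 (h.nQ (HM aH))⟩, by
      simpa [cm, commutatorElement_def, mul_assoc] using hc (commutator_mem_commutator (inv_mem hd.1) aH)⟩)
    fun x hx y hy e => by
      rw [hV.comm (inv_mem hx.2) hy.2, mem_c1]
      have : y * x⁻¹ * a = y * cm x a * (a * x⁻¹) := by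
        simp only [cm]
        group
      rw [this, e]
      simp only [cm]
      group
  rw [← Nat.card_coe_set_eq, SetLike.coe_sort_coe] at c6
  have c7 : Nat.card ↥(H ⊓ Q ⊔ N) ≤ 4 * Nat.card N :=
    Nat.le_of_mul_le_mul_right (c := Nat.card ↥(H ⊓ Q ⊓ N)) (by
      rw [c3]
      calc _ ≤ Nat.card ↥(H ⊓ Q ⊓ N) * 4 * Nat.card N :=
            Nat.mul_le_mul_right _ (c6.trans (Nat.mul_le_mul_left _ c5))
        _ = _ := by ring) Nat.card_pos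
  calc _ = _ := c2.symm
    _ ≤ 4 * Nat.card N * 4 := Nat.mul_le_mul c7 c1
    _ = _ := by ring

/-- sections that are 2-groups are sections of a Sylow 2-subgroup (probably in the library:
`ca find SectionalPRankLE`) -/
theorem sr_of_syl {T : Subgroup G} (hT : IsSyl 2 T ⊤) (h : SectionalPRankLE 2 4 T) :
    SectionalPRankLE 2 4 G :=
  ((MacW.SR.of_sec h).syl hT).sec

end Cfsg.Agent.Eo8
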