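import Mathlib
import Cfsg.Agent.Eo8.FinA

/-!
# Finite facts on the small groups
-/

set_option autoImplicit false
set_option linter.unusedSectionVars false
set_option maxRecDepth 100000
set_option synthInstance.maxSize 2000

namespace Cfsg.Agent.Eo8

open Subgroup Cfsg PLocal.Amb
open Cfsg.Agent.PLocal.CP (IsCharP)
open scoped MatrixGroups

universe u

variable {G : Type*} [Group G] [Finite G]

theorem card_A5 : Nat.card A5 = 60 := by
  rw [Nat.card_eq_fintype_card, card_alternatingGroup]; rfl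

theorem card_A6 : Nat.card A6 = 360 := by
  rw [Nat.card_eq_fintype_card, card_alternatingGroup]; rfl

theorem card_A7 : Nat.card A7 = 2520 := by
  rw [Nat.card_eq_fintype_card, card_alternatingGroup]; rfl

theorem card_L32 : Nat.card L32 = 168 := by
  simpa using Fn.card_SL3 (F := ZMod 2)

theorem IsL34.card {X : Type*} [Group X] (h : IsL34 X) : Nat.card X = 20160 := by
  obtain ⟨F, _, _, hF, ⟨e⟩⟩ := h
  have h1 := Fn.card_SL3 (F := F)
  have h2 := Class.gcd_mul_card_PSL (ι := Fin 3) (F := F)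
  rw [Nat.card_eq_fintype_card (α := F), hF] at h2
  rw [hF] at h1
  rw [Nat.card_congr e.toEquiv]
  norm_num at h1 h2
  omega

theorem n57_alt {n : ℕ} (hn : 5 ≤ n) : N57 (alternatingGroup (Fin n)) := by
  intro M hM h1
  have := Fn.simple_alt hn
  obtain ⟨x, hx⟩ := Fn.ex5 hn
  exact ⟨x, (hM.eq_bot_or_eq_top.resolve_left h1).symm ▸ mem_top x, Or.inl hx⟩

theorem n57_perm {n : ℕ} (hn : 5 ≤ n) : N57 (Equiv.Perm (Fin n)) := by
  intro M hM h1
  obtain ⟨x, hx⟩ := Fn.ex5 hn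
  exact ⟨x, Equiv.Perm.alternatingGroup_le_of_normal (by simpa) ((nontrivial_iff_ne_bot M).2 h1) x.2,
    Or.inl (by rwa [Subgroup.orderOf_coe])⟩

theorem n57_L32 : N57 L32 := by
  intro M hM h1
  have := Fn.simple32
  exact ⟨Fn.x7, (hM.eq_bot_or_eq_top.resolve_left h1).symm ▸ mem_top _, Or.inr Fn.aut7.1⟩

theorem simple_L32 : IsSimpleGroup L32 := by
  exact Fn.simple32

theorem IsL34.simple {X : Type*} [Group X] (h : IsL34 X) : IsSimpleGroup X := by
  obtain ⟨F, _, _, hF, ⟨e⟩⟩ := h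
  have := Class.PSL_isSimpleGroup (ι := Fin 3) (F := F) (by simp)
  exact e.isSimpleGroup

/-- For `Rk`: an elementary abelian subgroup of order 8 would be a Sylow subgroup, but there is an
element of order 4 (for `A5` the order is not divisible by 8). -/
theorem rk_A5 : Rk A5 := by
  exact Fn.rk_of (by rw [card_A5]; norm_num) (Or.inl (by rw [card_A5]; norm_num))

theorem rk_S5 : Rk (Equiv.Perm (Fin 5)) := by
  exact Fn.rk_of (by rw [Nat.card_perm, Nat.card_fin]; decide)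
    (Or.inr ⟨Equiv.swap 0 1 * Equiv.swap 1 2 * Equiv.swap 2 3, by decide +kernel⟩)

theorem rk_A6 : Rk A6 := by
  exact Fn.rk_of (by rw [card_A6]; norm_num)
    (Or.inr ⟨Fn.ev 0 1 1 2 * Fn.ev 2 3 4 5, by decide +kernel⟩)

theorem rk_L32 : Rk L32 := by
  exact Fn.rk_of (by rw [card_L32]; norm_num) (Or.inr ⟨Fn.ta * Fn.tc, by decide +kernel⟩)

theorem ns_A5 : ¬ Group.IsSolvable A5 := by
  exact Fn.ns_of (Fn.simple_alt le_rfl) (a := Fn.ev 0 1 1 2) (b := Fn.ev 0 1 2 3) (by decide +kernel)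

theorem ns_S5 : ¬ Group.IsSolvable (Equiv.Perm (Fin 5)) := by
  exact Equiv.Perm.not_isSolvable_fin_5

theorem ns_A6 : ¬ Group.IsSolvable A6 := by
  exact Fn.ns_of (Fn.simple_alt (by norm_num)) (a := Fn.ev 0 1 1 2) (b := Fn.ev 0 1 2 3)
    (by decide +kernel)

theorem ns_L32 : ¬ Group.IsSolvable L32 := by
  exact Fn.ns_of Fn.simple32 (a := Fn.ta) (b := Fn.tc) (by decide +kernel)

/-- every involution inverts an element of order five -/
theorem inv5_A5 : ∀ t : A5, t * t = 1 → t ≠ 1 → ∃ x : A5, orderOf x = 5 ∧ t * x * t⁻¹ * x = 1 := by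
  exact Fn.inv5 (by norm_num) (s := Fn.ev 1 4 2 3) (x := Fn.ev 0 1 1 2 * Fn.ev 2 3 3 4)
    (by decide +kernel) (by decide +kernel) (ord_prime 5 (by decide +kernel) (by decide +kernel))
    (by decide +kernel)

theorem inv5_A6 : ∀ t : A6, t * t = 1 → t ≠ 1 → ∃ x : A6, orderOf x = 5 ∧ t * x * t⁻¹ * x = 1 := by
  exact Fn.inv5 (by norm_num) (s := Fn.ev 1 4 2 3) (x := Fn.ev 0 1 1 2 * Fn.ev 2 3 3 4)
    (by decide +kernel) (by decide +kernel) (ord_prime 5 (by decide +kernel) (by decide +kernel))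
    (by decide +kernel)

theorem inv3_S5 : ∀ t : Equiv.Perm (Fin 5), t * t = 1 → t ≠ 1 →
    ∃ x : Equiv.Perm (Fin 5), orderOf x = 3 ∧ t * x * t⁻¹ * x = 1 := by
  intro t h1 h2
  have key : ∀ s : Equiv.Perm (Fin 5), s * s = 1 → s ≠ 1 → Equiv.Perm.sign s = Equiv.Perm.sign t →
      s * (Equiv.swap 0 1 * Equiv.swap 1 2) * s⁻¹ * (Equiv.swap 0 1 * Equiv.swap 1 2) = 1 →
      ∃ x : Equiv.Perm (Fin 5), orderOf x = 3 ∧ t * x * t⁻¹ * x = 1 := fun s a b c d => by
    obtain ⟨c, hc⟩ := Fn.inv_conj (Fn.conj_inv h1 h2 a b c (Or.inl (by norm_num))) d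
    exact ⟨_, ((MulAut.conj c).orderOf_eq _).trans
      (ord_prime 3 (by decide +kernel) (by decide +kernel)), hc⟩
  rcases Int.units_eq_one_or (Equiv.Perm.sign t) with e | e
  · exact key (Fn.ev 0 1 3 4 : A5) (by decide +kernel) (by decide +kernel)
      ((Equiv.Perm.mem_alternatingGroup.1 (Fn.ev 0 1 3 4 : A5).2).trans e.symm) (by decide +kernel)
  · exact key (Equiv.swap 0 1) (by decide +kernel) (by decide +kernel)
      ((Equiv.Perm.sign_swap (by decide)).trans e.symm) (by decide +kernel)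

theorem no8_A7 (g : A7) : orderOf g ≠ 8 := by
  intro h
  rw [← Subgroup.orderOf_coe] at h
  have : orderOf (g : Equiv.Perm (Fin 7)) ∣ 4 := by
    rw [← Equiv.Perm.lcm_cycleType, Multiset.lcm_dvd]
    intro n hn
    have h1 := h ▸ Equiv.Perm.dvd_of_mem_cycleType hn
    have h2 := (Equiv.Perm.le_card_support_of_mem_cycleType hn).trans (Finset.card_le_univ _)
    rw [Fintype.card_fin] at h2
    interval_cases n <;> omega
  rw [h] at this
  omega

/-- A 2-element of `SL(3, 4)` is unipotent, `(g - 1) ^ 3 = 0`, so `g ^ 4 = 1`; an element of order 8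
of the quotient by the centre (order 3) lifts to one of order 8 (or see `S2497`, `S4087` files). -/
theorem IsL34.no8 {X : Type*} [Group X] (h : IsL34 X) (g : X) : orderOf g ≠ 8 := by
  obtain ⟨F, _, _, hF, ⟨e⟩⟩ := h
  have := Fn.char2 hF
  rw [← e.orderOf_eq]
  obtain ⟨a, ha⟩ := QuotientGroup.mk'_surjective (center SL(3, F)) (e g)
  rw [← ha]
  intro h8
  have h1 : a ^ 8 ∈ center SL(3, F) := (QuotientGroup.eq_one_iff _).1 (by
    change QuotientGroup.mk' _ (a ^ 8) = 1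
    rw [map_pow, ← h8, pow_orderOf_eq_one])
  have c3 : Nat.card (center SL(3, F)) = 3 := by
    rw [Class.card_center_SL, Nat.card_eq_fintype_card, hF]; simp
  have h2 : (a ^ 8) ^ 3 = 1 :=
    congrArg Subtype.val (c3 ▸ pow_card_eq_one' (x := (⟨_, h1⟩ : center SL(3, F))))
  have h3 : ((a ^ 3).1) ^ 2 ^ 3 = 1 := by
    rw [← Matrix.SpecialLinearGroup.coe_pow, ← pow_mul, mul_comm, pow_mul]
    exact congrArg Subtype.val h2
  have h4 : IsNilpotent ((a ^ 3).1 - 1) :=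
    ⟨2 ^ 3, by rw [sub_pow_char_pow_of_commute 2 3 (Commute.one_right _), h3, one_pow, sub_self]⟩
  have h5 := (Matrix.isNilpotent_charpoly_sub_pow_of_isNilpotent h4).eq_zero
  have h6 := Matrix.aeval_self_charpoly ((a ^ 3).1 - 1)
  rw [sub_eq_zero.1 h5, map_pow, Polynomial.aeval_X, Fintype.card_fin] at h6
  have h7 : ((a ^ 3).1) ^ 2 ^ 2 = 1 := by
    have := sub_pow_char_pow_of_commute 2 2 (Commute.one_right (a ^ 3).1)
    rw [show 2 ^ 2 = 3 + 1 from rfl, pow_succ, h6, zero_mul, one_pow] at this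
    exact sub_eq_zero.1 this.symm
  have h9 : a ^ 12 = 1 := Subtype.ext (by
    rw [show 12 = 3 * 2 ^ 2 from rfl, pow_mul, Matrix.SpecialLinearGroup.coe_pow]; exact h7)
  have := (orderOf_map_dvd (QuotientGroup.mk' (center SL(3, F))) a).trans
    (orderOf_dvd_of_pow_eq_one h9)
  rw [h8] at this
  omega

/-- subgroups `A₄` -/
theorem fd_A7 : FD A7 2 3 := by
  exact Fn.FD_list (X := A7) [1, Fn.ev 0 1 2 3, Fn.ev 0 2 1 3, Fn.ev 0 3 1 2] (Fn.ev 0 1 1 2)
    (Fn.ev 0 1 2 3) (by decide +kernel) (by decide +kernel)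

theorem IsL34.fd {X : Type*} [Group X] (h : IsL34 X) : FD X 2 3 := by
  obtain ⟨f, hf⟩ := Fn.emb h
  exact Fn.FD_map Fn.fd_L32 f hf

/-- elements of order 5 resp. 7 conjugate to a power: orders of automizers -/
theorem aut5_A5 : ∃ x g : A5, orderOf x = 5 ∧ g * x * g⁻¹ = x ^ 4 := by
  exact ⟨Fn.ev 0 1 1 2 * Fn.ev 2 3 3 4, Fn.ev 1 4 2 3,
    ord_prime 5 (by decide +kernel) (by decide +kernel), by decide +kernel⟩

theorem aut5_A6 : ∃ x g : A6, orderOf x = 5 ∧ g * x * g⁻¹ = x ^ 4 := by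
  exact ⟨Fn.ev 0 1 1 2 * Fn.ev 2 3 3 4, Fn.ev 1 4 2 3,
    ord_prime 5 (by decide +kernel) (by decide +kernel), by decide +kernel⟩

theorem aut5_A7 : ∃ x g : A7, orderOf x = 5 ∧ g * x * g⁻¹ = x ^ 2 := by
  exact ⟨Fn.ev 0 1 1 2 * Fn.ev 2 3 3 4, Fn.ev 1 2 2 4 * Fn.ev 4 3 5 6,
    ord_prime 5 (by decide +kernel) (by decide +kernel), by decide +kernel⟩

theorem aut7_L32 : ∃ x g : L32, orderOf x = 7 ∧ g * x * g⁻¹ = x ^ 2 := by
  exact ⟨_, _, Fn.aut7.1, Fn.aut7.2.2⟩

/-- use the subgroup `SL(3, 2)` of matrices with entries 0, 1 -/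
theorem IsL34.aut7 {X : Type*} [Group X] (h : IsL34 X) :
    ∃ x g : X, orderOf x = 7 ∧ orderOf g = 3 ∧ g * x * g⁻¹ = x ^ 2 := by
  obtain ⟨f, hf⟩ := Fn.emb h
  exact ⟨f Fn.x7, f Fn.g3, (orderOf_injective f hf _).trans Fn.aut7.1,
    (orderOf_injective f hf _).trans Fn.aut7.2.1, by
      rw [← map_inv, ← map_mul, ← map_mul, Fn.aut7.2.2, map_pow]⟩

end Cfsg.Agent.Eo8
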